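import Groth.Agent.FlatModel.Local

/-!
# Spreading flatness over a multiplicative set
-/

namespace Groth.Agent.FlatModel

open MvPolynomial TensorProduct

universe u

section vec

variable {a n : ℕ} {R₀ : Type u} [CommRing R₀] (K₀ : Submodule (MvPolynomial (Fin n) R₀) (V a n R₀))

/-- Flatness over a multiplicative set spreads to one of its elements, over any base. -/
theorem exists_ptFlat_powers_mem [IsNoetherianRing R₀] {R : Type u} [CommRing R] [Algebra R₀ R]
    (M₀ : Submonoid (MvPolynomial (Fin n) R)) (h : PtFlat K₀ R M₀) :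
    ∃ g ∈ M₀, PtFlat K₀ R (Submonoid.powers g) := by
  classical
  obtain ⟨S, hS, hcover⟩ := exists_cover K₀ ⊥
  choose G hG using fun p : Ideal R₀ => (IsNoetherian.noetherian (K₀ ⊓ CJ a n p) : (K₀ ⊓ CJ a n p).FG)
  let T : Ideal R₀ → (R₁ : Subalgebra R₀ R) → MvPolynomial (Fin n) R₁ → Set (V a n R₀) := fun p R₁ g =>
    {t | g • mapV (algebraMap R₀ R₁) t ∈
      ((((p.map (algebraMap R₀ R₁)).map C : Ideal (MvPolynomial (Fin n) R₁))) • KK K₀ R₁)}
  have hmono : ∀ p (R₁ R₂ : Subalgebra R₀ R) (hle : R₁ ≤ R₂) (g : MvPolynomial (Fin n) R₁)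
      (g' : MvPolynomial (Fin n) R₂), T p R₁ g ⊆ T p R₂ (g' * MvPolynomial.map (Subalgebra.inclusion hle).toRingHom g) := by
    intro p R₁ R₂ hle g g' t ht
    simp only [T, Set.mem_setOf_eq, map_smul_KK_eq_span] at ht ⊢
    have := span_mono_subalgebra hle ht
    rw [mapV_smul, mapV_algebraMap] at this
    rw [mul_smul]
    exact Submodule.smul_mem _ _ this
  have hone : ∀ p, ∀ t ∈ K₀, t ∈ CJ a n p → ∃ R₁ : Subalgebra R₀ R, R₁.FG ∧ ∃ g : MvPolynomial (Fin n) R₁,
      MvPolynomial.map R₁.val.toRingHom g ∈ M₀ ∧ t ∈ T p R₁ g := by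
    intro p t ht htp
    have h1 : mapV (algebraMap R₀ R) t ∈ CJ a n (p.map (algebraMap R₀ R)) := mem_CJ.2 fun i =>
      MvPolynomial.mem_map_C_iff.2 fun d => by
        rw [mapV_apply, MvPolynomial.coeff_map]
        exact Ideal.mem_map_of_mem _ (MvPolynomial.mem_map_C_iff.1 (mem_CJ.1 htp i) d)
    obtain ⟨s, hs, h2⟩ := h _ _ (mapL_mem_KK K₀ ht) h1
    rw [map_smul_KK_eq_span] at h2
    obtain ⟨R₁, hR₁, x₁, hx₁, hx₁t⟩ := exists_fg_span_descent h2
    let R₂ := R₁ ⊔ Algebra.adjoin R₀ (s.coeffs : Set R)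
    obtain ⟨g, hg⟩ : s ∈ Set.range (MvPolynomial.map R₂.val.toRingHom) :=
      MvPolynomial.mem_range_map_iff_coeffs_subset.2 fun c hc =>
        ⟨⟨c, (le_sup_right : _ ≤ R₂) (Algebra.subset_adjoin hc)⟩, rfl⟩
    refine ⟨R₂, hR₁.sup (Subalgebra.fg_adjoin_finset _), g, hg.symm ▸ hs, ?_⟩
    have hx₂ := span_mono_subalgebra (le_sup_left : R₁ ≤ R₂) hx₁
    have : mapV (Subalgebra.inclusion le_sup_left).toRingHom x₁ = g • mapV (algebraMap R₀ R₂) t :=
      mapV_injective (g := R₂.val.toRingHom) Subtype.val_injective (by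
        rw [mapV_val_inclusion, hx₁t, mapV_smul, hg, mapV_algebraMap]
        rfl)
    simp only [T, Set.mem_setOf_eq, map_smul_KK_eq_span]
    exact this ▸ hx₂
  have hfin : ∀ W : Finset (Ideal R₀ × V a n R₀), (∀ w ∈ W, w.2 ∈ K₀ ⊓ CJ a n w.1) →
      ∃ R₁ : Subalgebra R₀ R, R₁.FG ∧ ∃ g : MvPolynomial (Fin n) R₁,
        MvPolynomial.map R₁.val.toRingHom g ∈ M₀ ∧ ∀ w ∈ W, w.2 ∈ T w.1 R₁ g := by
    intro W
    induction W using Finset.induction with
    | empty =>
      exact fun _ => ⟨⊥, Subalgebra.fg_bot, 1, by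
        rw [map_one]; exact one_mem M₀, by simp⟩
    | insert w W _ ih =>
      intro hW
      obtain ⟨R₁, h₁, g₁, hg₁, h₁'⟩ := ih fun z hz => hW z (Finset.mem_insert_of_mem hz)
      obtain ⟨R₂, h₂, g₂, hg₂, h₂'⟩ := hone w.1 w.2 (hW w (Finset.mem_insert_self _ _)).1 (hW w (Finset.mem_insert_self _ _)).2
      let i₁ := MvPolynomial.map (σ := Fin n) (Subalgebra.inclusion (le_sup_left : R₁ ≤ R₁ ⊔ R₂)).toRingHom
      let i₂ := MvPolynomial.map (σ := Fin n) (Subalgebra.inclusion (le_sup_right : R₂ ≤ R₁ ⊔ R₂)).toRingHom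
      refine ⟨R₁ ⊔ R₂, h₁.sup h₂, i₁ g₁ * i₂ g₂, ?_, fun z hz => ?_⟩
      · rw [map_mul]
        refine M₀.mul_mem ?_ ?_
        · simp only [i₁, MvPolynomial.map_map]; exact hg₁
        · simp only [i₂, MvPolynomial.map_map]; exact hg₂
      rcases Finset.mem_insert.1 hz with rfl | hz
      · exact hmono _ _ _ le_sup_right g₂ (i₁ g₁) h₂'
      · rw [mul_comm]
        exact hmono _ _ _ le_sup_left g₁ (i₂ g₂) (h₁' z hz)
  obtain ⟨R₁, hR₁, g₁, hg₁, hW⟩ := hfin (S.biUnion fun x => (G x.1).image fun t => (x.1, t)) (by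
    intro w hw
    simp only [Finset.mem_biUnion, Finset.mem_image] at hw
    obtain ⟨x, -, t, ht, rfl⟩ := hw
    exact (hG x.1).le (Submodule.subset_span ht))
  refine ⟨_, hg₁, fun J x hx hxJ => ?_⟩
  obtain ⟨R₂, hR₂, x₂, hx₂, hx₂x⟩ := exists_fg_span_descent hx
  let R₃ := R₁ ⊔ R₂
  let i₁ := Subalgebra.inclusion (le_sup_left : R₁ ≤ R₃)
  let g := MvPolynomial.map i₁.toRingHom g₁
  let x₃ := mapV (Subalgebra.inclusion (le_sup_right : R₂ ≤ R₃)).toRingHom x₂
  have hx₃ : x₃ ∈ KK K₀ R₃ := span_mono_subalgebra le_sup_right hx₂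
  have hx₃x : mapV R₃.val.toRingHom x₃ = x := by rw [mapV_val_inclusion, hx₂x]
  let J₃ : Ideal R₃ := J.comap R₃.val.toRingHom
  have hx₃J : x₃ ∈ CJ a n J₃ := mem_CJ.2 fun i => MvPolynomial.mem_map_C_iff.2 fun d => by
    have := MvPolynomial.mem_map_C_iff.1 (mem_CJ.1 hxJ i) d
    rw [← hx₃x, mapV_apply, MvPolynomial.coeff_map] at this
    exact this
  have : Algebra.FiniteType R₀ R₃ := (Subalgebra.fg_iff_finiteType R₃).1 (hR₁.sup hR₂)
  have : IsNoetherianRing R₃ := Algebra.FiniteType.isNoetherianRing R₀ R₃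
  let c : Ideal (MvPolynomial (Fin n) R₃) :=
    ((J₃.map C : Ideal (MvPolynomial (Fin n) R₃)) • KK K₀ R₃).comap (LinearMap.toSpanSingleton _ _ x₃)
  have hgc : g ∈ c.radical := by
    rw [Ideal.radical_eq_sInf, Ideal.mem_sInf]
    rintro P ⟨hcP, hP⟩
    by_contra hgP
    obtain ⟨⟨p, f⟩, hpf, hpP, hfP⟩ :=
      hcover (P.comap ((C : R₃ →+* MvPolynomial (Fin n) R₃).comp (algebraMap R₀ R₃))) (Ideal.IsPrime.comap _) bot_le
    have hT : ∀ t ∈ K₀, t ∈ CJ a n p → g • mapV (algebraMap R₀ R₃) t ∈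
        (((p.map (algebraMap R₀ R₃)).map C : Ideal (MvPolynomial (Fin n) R₃))) • KK K₀ R₃ := by
      intro t ht htp
      have hmem : t ∈ Submodule.span (MvPolynomial (Fin n) R₀) (G p : Set (V a n R₀)) := (hG p).ge ⟨ht, htp⟩
      have hle : Submodule.span (MvPolynomial (Fin n) R₃) (mapV (algebraMap R₀ R₃) '' (G p : Set (V a n R₀))) ≤
          (((p.map (algebraMap R₀ R₃)).map C : Ideal (MvPolynomial (Fin n) R₃)) • KK K₀ R₃).comap
            (LinearMap.lsmul (MvPolynomial (Fin n) R₃) (V a n R₃) g) := by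
        rw [Submodule.span_le]
        rintro _ ⟨t, ht, rfl⟩
        have h1 := hmono p R₁ R₃ le_sup_left g₁ 1 (hW (p, t) (Finset.mem_biUnion.2 ⟨(p, f), hpf, Finset.mem_image_of_mem _ ht⟩))
        rw [one_mul] at h1
        exact h1
      exact hle (mapV_mem_span (algebraMap R₀ R₃) hmem)
    obtain ⟨s, hs, hsx⟩ := exists_smul_mem K₀ (hS _ hpf) g hT J₃ hx₃ hx₃J P hpP hfP hgP
    exact hs (hcP hsx)
  obtain ⟨m, hm⟩ := hgc
  refine ⟨_, ⟨m, rfl⟩, ?_⟩
  have hm' : g ^ m • x₃ ∈ (J₃.map C : Ideal (MvPolynomial (Fin n) R₃)) • KK K₀ R₃ := hm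
  have hg : MvPolynomial.map R₃.val.toRingHom g = MvPolynomial.map R₁.val.toRingHom g₁ := by
    simp only [g, i₁, MvPolynomial.map_map]; rfl
  have := smul_KK_le_closure K₀ J₃ hm'
  show (MvPolynomial.map R₁.val.toRingHom g₁) ^ m • x ∈ _
  rw [← hx₃x, ← hg, ← map_pow, ← mapV_smul]
  clear hm hm'
  generalize g ^ m • x₃ = y at this ⊢
  induction this using AddSubmonoid.closure_induction with
  | mem y hy =>
    obtain ⟨r, hr, w, hw, rfl⟩ := hy
    rw [← C_smul, mapV_smul, MvPolynomial.map_C]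
    exact Submodule.smul_mem_smul (Ideal.mem_map_of_mem _ hr)
      (show mapV _ (mapV _ w) ∈ _ from (mapV_algebraMap R₃.val w).symm ▸ mapL_mem_KK K₀ hw)
  | zero => rw [mapV_zero]; exact zero_mem _
  | add y z _ _ hy hz => rw [mapV_add]; exact add_mem hy hz

end vec

/-- Flatness of a localised finitely presented module over a polynomial ring spreads to one element. -/
theorem exists_flat_powers_mem {a n : ℕ} {R : Type u} [CommRing R] {M : Type u} [AddCommGroup M] [Module R M]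
    [Module (MvPolynomial (Fin n) R) M] [IsScalarTower R (MvPolynomial (Fin n) R) M]
    (π : V a n R →ₗ[MvPolynomial (Fin n) R] M) (hπ : Function.Surjective π) (hfg : (LinearMap.ker π).FG)
    (W : Submonoid (MvPolynomial (Fin n) R)) (h : Module.Flat R (LocalizedModule W M)) :
    ∃ g ∈ W, Module.Flat R (LocalizedModule (Submonoid.powers g) M) := by
  classical
  obtain ⟨G, hG⟩ := hfg
  let c : Finset R := G.biUnion fun v => Finset.univ.biUnion fun i => (v i).coeffs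
  let R₀ : Subalgebra ℤ R := Algebra.adjoin ℤ (c : Set R)
  have : Algebra.FiniteType ℤ R₀ := (Subalgebra.fg_iff_finiteType R₀).1 (Subalgebra.fg_adjoin_finset c)
  have : IsNoetherianRing R₀ := Algebra.FiniteType.isNoetherianRing ℤ R₀
  have hGdesc : ∀ v ∈ G, ∃ w : V a n R₀, mapV (algebraMap R₀ R) w = v := by
    intro v hv
    have : ∀ i, ∃ q : MvPolynomial (Fin n) R₀, MvPolynomial.map (algebraMap R₀ R) q = v i := fun i =>
      MvPolynomial.mem_range_map_iff_coeffs_subset.2 fun x hx =>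
        ⟨⟨x, Algebra.subset_adjoin (Finset.mem_biUnion.2 ⟨v, hv, Finset.mem_biUnion.2 ⟨i, Finset.mem_univ _, hx⟩⟩)⟩, rfl⟩
    choose w hw using this
    exact ⟨w, funext hw⟩
  choose! lv hlv using hGdesc
  let K₀ : Submodule (MvPolynomial (Fin n) R₀) (V a n R₀) := Submodule.span _ (lv '' G)
  have hker : LinearMap.ker π = KK K₀ R := by
    apply le_antisymm
    · rw [← hG, Submodule.span_le]
      intro v hv
      exact Submodule.subset_span ⟨lv v, Submodule.subset_span ⟨v, hv, rfl⟩, hlv v hv⟩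
    · rw [KK, Submodule.span_le]
      rintro _ ⟨w, hw, rfl⟩
      refine Submodule.span_le.2 ?_ (mapV_mem_span (algebraMap R₀ R) hw)
      rintro _ ⟨w, ⟨v, hv, rfl⟩, rfl⟩
      rw [hlv v hv]
      exact hG.le (Submodule.subset_span hv)
  obtain ⟨g, hg, hflat⟩ := exists_ptFlat_powers_mem K₀ W
    ((ptFlat_iff K₀ W π hπ hker).2 ((flat_localized_iff W (LocalizedModule.mkLinearMap W M)).1 h))
  exact ⟨g, hg, (flat_localized_iff _ (LocalizedModule.mkLinearMap (Submonoid.powers g) M)).2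
    ((ptFlat_iff K₀ _ π hπ hker).1 hflat)⟩

end Groth.Agent.FlatModel
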